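import Mathlib
import Groth.Prelude.Def_SGA3b
import Groth.Agent.Lib.Helper6.MultType.Basic
import Groth.Agent.Lib.Helper6.Lift.Main
import Groth.Agent.Lib.Helper6.Lift.DiagMain

/-!
# Isotriviality modulo a nil ideal, part 1: base change of groups of multiplicative type and
lifting of diagonalisability along nil thickenings (helper6)
-/

set_option autoImplicit false
set_option linter.unusedSectionVars false
set_option linter.unusedVariables false
set_option linter.unusedSimpArgs false
set_option linter.style.haveILetI false
set_option linter.overlappingInstances false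
set_option maxHeartbeats 800000
set_option synthInstance.maxHeartbeats 400000

universe u
open TensorProduct SGA3b

namespace Groth.Agent.Lib.Helper6.IsoNil

open Groth.Agent.Lib.Helper6.MultType Groth.Agent.Lib.Helper6.Lift

variable {R : Type u} [CommRing R] {A : Type u} [CommRing A] [HopfAlgebra R A]

/-- Diagonalisability over `T` transfers along any ring map `T → T'` of `R`-algebras. -/
lemma isDiag_transfer {T T' : Type u} [CommRing T] [CommRing T'] [Algebra R T] [Algebra R T']
    (φ : T →+* T') (hφ : ∀ r, φ (algebraMap R T r) = algebraMap R T' r)
    (hd : IsDiag T (T ⊗[R] A)) : IsDiag T' (T' ⊗[R] A) := by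
  letI : Algebra T T' := φ.toAlgebra
  haveI : IsScalarTower R T T' := IsScalarTower.of_algebraMap_eq (fun r => (hφ r).symm)
  exact IsDiag.of_tower T T' (IsDiag.baseChange hd T')

section BaseChange

attribute [local instance] Algebra.TensorProduct.rightAlgebra

/-- Base change of a constant chart over `D(f)` to `D(f)` in an `R`-algebra `S`. -/
lemma isMultTypeConst_away_baseChange (f : R) (R' : Type u) [CommRing R']
    [Algebra (Localization.Away f) R'] [Module.FaithfullyFlat (Localization.Away f) R']
    (hd : IsDiag R' (R' ⊗[Localization.Away f] (Localization.Away f ⊗[R] A)))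
    (S : Type u) [CommRing S] [Algebra R S] :
    IsMultTypeConst (Localization.Away (algebraMap R S f))
      (Localization.Away (algebraMap R S f) ⊗[S] (S ⊗[R] A)) := by
  have hu : IsUnit (algebraMap R (Localization.Away (algebraMap R S f)) f) := by
    rw [IsScalarTower.algebraMap_apply R S (Localization.Away (algebraMap R S f))]
    exact IsLocalization.Away.algebraMap_isUnit (algebraMap R S f)
  letI aRfSg : Algebra (Localization.Away f) (Localization.Away (algebraMap R S f)) :=
    (IsLocalization.Away.lift (S := Localization.Away f) f hu).toAlgebra
  haveI tw1 : IsScalarTower R (Localization.Away f) (Localization.Away (algebraMap R S f)) :=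
    IsScalarTower.of_algebraMap_eq (fun r => (IsLocalization.Away.lift_eq f hu r).symm)
  letI aRR' : Algebra R R' :=
    ((algebraMap (Localization.Away f) R').comp (algebraMap R (Localization.Away f))).toAlgebra
  haveI tw2 : IsScalarTower R (Localization.Away f) R' := IsScalarTower.of_algebraMap_eq' rfl
  refine ⟨Localization.Away (algebraMap R S f) ⊗[Localization.Away f] R', inferInstance,
    inferInstance, inferInstance, ?_⟩
  haveI tw3 : IsScalarTower R R'
      (Localization.Away (algebraMap R S f) ⊗[Localization.Away f] R') := by
    refine IsScalarTower.of_algebraMap_eq (fun r => ?_)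
    rw [Algebra.TensorProduct.algebraMap_apply, Algebra.TensorProduct.right_algebraMap_apply,
      IsScalarTower.algebraMap_apply R (Localization.Away f)
        (Localization.Away (algebraMap R S f)),
      IsScalarTower.algebraMap_apply R (Localization.Away f) R']
    rw [Algebra.algebraMap_eq_smul_one (A := R') (algebraMap R (Localization.Away f) r),
      Algebra.algebraMap_eq_smul_one (A := Localization.Away (algebraMap R S f))
        (algebraMap R (Localization.Away f) r), TensorProduct.smul_tmul]
  haveI tw4 : IsScalarTower R S
      (Localization.Away (algebraMap R S f) ⊗[Localization.Away f] R') := inferInstance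
  haveI tw5 : IsScalarTower S (Localization.Away (algebraMap R S f))
      (Localization.Away (algebraMap R S f) ⊗[Localization.Away f] R') := inferInstance
  have d1 : IsDiag R' (R' ⊗[R] A) := IsDiag.of_tower (Localization.Away f) R' hd
  have d2 := IsDiag.baseChange d1 (Localization.Away (algebraMap R S f) ⊗[Localization.Away f] R')
  have d3 := IsDiag.of_tower R'
    (Localization.Away (algebraMap R S f) ⊗[Localization.Away f] R') d2
  have d4 := IsDiag.to_tower S
    (Localization.Away (algebraMap R S f) ⊗[Localization.Away f] R') d3
  exact IsDiag.to_tower (Localization.Away (algebraMap R S f))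
    (Localization.Away (algebraMap R S f) ⊗[Localization.Away f] R') d4

/-- Groups of multiplicative type are stable under arbitrary base change. -/
theorem IsMultType.baseChange (h : IsMultType R A) (S : Type u) [CommRing S] [Algebra R S] :
    IsMultType S (S ⊗[R] A) := by
  obtain ⟨s, hs, H⟩ := h
  refine ⟨algebraMap R S '' s, ?_, ?_⟩
  · rw [← Ideal.map_span, hs, Ideal.map_top]
  · rintro _ ⟨f, hf, rfl⟩
    obtain ⟨R', _, _, hff, hd⟩ := H f hf
    exact isMultTypeConst_away_baseChange f R' hd S

end BaseChange

/-- A group of multiplicative type over `R` becomes diagonalisable over an `R`-algebra `S` as soon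
as it does so modulo a nil ideal of `S`. -/
theorem isDiag_of_nil_quot (h : IsMultType R A) (S : Type u) [CommRing S] [Algebra R S]
    (J : Ideal S) (hJ : ∀ x ∈ J, IsNilpotent x) (hd : IsDiag (S ⧸ J) ((S ⧸ J) ⊗[R] A)) :
    IsDiag S (S ⊗[R] A) :=
  isDiag_of_isDiag_mod_nil' J hJ (IsMultType.baseChange h S) (IsDiag.to_tower S (S ⧸ J) hd)

end Groth.Agent.Lib.Helper6.IsoNil
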