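import Mathlib
import Groth.Prelude.Def_SGA3b
import Groth.Agent.Lib.Helper6.IsoNil.IN1
import Groth.Agent.Lib.Helper6.EtLift.ELa

/-!
# Isotriviality modulo a nil ideal, part 2: lifting an étale splitting cover (helper6)
-/

set_option autoImplicit false
set_option linter.unusedSectionVars false
set_option linter.unusedVariables false
set_option linter.unusedSimpArgs false
set_option linter.style.haveILetI false
set_option linter.overlappingInstances false
set_option maxHeartbeats 800000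
set_option synthInstance.maxHeartbeats 400000

universe u
open TensorProduct SGA3b
open scoped Polynomial

namespace Groth.Agent.Lib.Helper6.IsoNil

open Groth.Agent.Lib.Helper6.MultType Groth.Agent.Lib.Helper6.Lift
  Groth.Agent.Lib.Helper6.EtLift

section Ideals

variable {R : Type u} [CommRing R]

lemma nil_le_of_isPrime (I : Ideal R) (hI : ∀ x ∈ I, IsNilpotent x) (𝔭 : Ideal R)
    [h𝔭 : 𝔭.IsPrime] : I ≤ 𝔭 := by
  intro x hx
  obtain ⟨n, hn⟩ := hI x hx
  exact h𝔭.mem_of_pow_mem n (hn ▸ 𝔭.zero_mem)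

lemma map_mk_ne_top (I J : Ideal R) (hIJ : I ≤ J) (hJ : J ≠ ⊤) :
    Ideal.map (Ideal.Quotient.mk I) J ≠ ⊤ := by
  intro htop
  have h1 : (1 : R ⧸ I) ∈ Ideal.map (Ideal.Quotient.mk I) J := htop ▸ Submodule.mem_top
  rw [Ideal.mem_map_iff_of_surjective _ Ideal.Quotient.mk_surjective] at h1
  obtain ⟨j, hj, hj1⟩ := h1
  apply hJ
  rw [Ideal.eq_top_iff_one]
  have h2 : j - 1 ∈ I := by
    rw [← Ideal.Quotient.eq_zero_iff_mem, map_sub, hj1, map_one, sub_self]
  have h3 : j - (j - 1) ∈ J := J.sub_mem hj (hIJ h2)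
  simpa using h3

/-- A covering family modulo a nil ideal lifts to a covering family. -/
lemma span_preimage_eq_top (I : Ideal R) (hI : ∀ x ∈ I, IsNilpotent x) (sb : Set (R ⧸ I))
    (hsb : Ideal.span sb = ⊤) : Ideal.span {f : R | Ideal.Quotient.mk I f ∈ sb} = ⊤ := by
  by_contra hne
  obtain ⟨𝔪, h𝔪, hle⟩ := Ideal.exists_le_maximal _ hne
  haveI := h𝔪.isPrime
  have hI𝔪 : I ≤ 𝔪 := nil_le_of_isPrime I hI 𝔪
  apply map_mk_ne_top I 𝔪 hI𝔪 h𝔪.ne_top
  rw [eq_top_iff, ← hsb, Ideal.span_le]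
  intro fb hfb
  obtain ⟨f, rfl⟩ := Ideal.Quotient.mk_surjective fb
  exact Ideal.mem_map_of_mem _ (hle (Ideal.subset_span hfb))

end Ideals

section LiftProps

variable {R : Type u} [CommRing R] (I : Ideal R) (hI : ∀ x ∈ I, IsNilpotent x)
variable {S : Type u} [CommRing S] [Algebra R S]
variable {Sb : Type u} [CommRing Sb] [Algebra (R ⧸ I) Sb]
variable (q : S →+* Sb)
  (hcomp : ∀ r : R, q (algebraMap R S r) = algebraMap (R ⧸ I) Sb (Ideal.Quotient.mk I r))

include hcomp in
lemma comp_eq : q.comp (algebraMap R S) = (algebraMap (R ⧸ I) Sb).comp (Ideal.Quotient.mk I) :=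
  RingHom.ext hcomp

include hI hcomp in
/-- Faithful flatness lifts through a nil thickening. -/
lemma faithfullyFlat_of_lift [Module.Flat R S] [hff : Module.FaithfullyFlat (R ⧸ I) Sb] :
    Module.FaithfullyFlat R S := by
  rw [Module.faithfullyFlat_iff]
  refine ⟨inferInstance, fun 𝔪 h𝔪 htop => ?_⟩
  haveI := h𝔪.isPrime
  have hI𝔪 : I ≤ 𝔪 := nil_le_of_isPrime I hI 𝔪
  have hne := ((Module.FaithfullyFlat.iff_flat_and_proper_ideal _ _).mp hff).2 _
    (map_mk_ne_top I 𝔪 hI𝔪 h𝔪.ne_top)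
  apply hne
  rw [Ideal.smul_top_eq_map] at htop ⊢
  have h1 : Ideal.map (algebraMap R S) 𝔪 = ⊤ := by
    have := congrArg (Submodule.restrictScalars R) (rfl : Ideal.map (algebraMap R S) 𝔪 = _)
    apply_fun (Submodule.restrictScalars R) using Submodule.restrictScalars_injective R S S
    rw [htop]
    rfl
  have h2 : Ideal.map q (Ideal.map (algebraMap R S) 𝔪) = ⊤ := by
    rw [h1, Ideal.eq_top_iff_one]
    exact (map_one q) ▸ Ideal.mem_map_of_mem q Submodule.mem_top
  rw [Ideal.map_map, comp_eq I q hcomp, ← Ideal.map_map] at h2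
  rw [h2]
  rfl

include hI hcomp in
/-- Integrality lifts through a nil thickening. -/
lemma isIntegral_of_lift (hker : RingHom.ker q = I.map (algebraMap R S))
    [Algebra.IsIntegral (R ⧸ I) Sb] : Algebra.IsIntegral R S := by
  refine ⟨fun x => ?_⟩
  obtain ⟨p, hp, hpx⟩ := Algebra.IsIntegral.isIntegral (R := R ⧸ I) (q x)
  obtain ⟨P, hPp, -, hP⟩ := Polynomial.lifts_and_natDegree_eq_and_monic
    (f := Ideal.Quotient.mk I)
    ((Polynomial.mem_lifts _).mpr (Polynomial.map_surjective _ Ideal.Quotient.mk_surjective p)) hp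
  have h1 : q (Polynomial.eval₂ (algebraMap R S) x P) = 0 := by
    rw [Polynomial.hom_eval₂, comp_eq I q hcomp, ← Polynomial.eval₂_map, hPp]
    exact hpx
  have h2 : Polynomial.eval₂ (algebraMap R S) x P ∈ I.map (algebraMap R S) := by
    rw [← hker, RingHom.mem_ker]
    exact h1
  obtain ⟨N, hN⟩ := mem_nilradical.mp (map_nil I hI S h2)
  refine ⟨P ^ N, hP.pow N, ?_⟩
  rw [Polynomial.eval₂_pow, hN]

end LiftProps

section Lift

variable {R : Type u} [CommRing R] {A : Type u} [CommRing A] [HopfAlgebra R A]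

/-- Lifting an étale faithfully flat splitting cover through a nil thickening. -/
theorem exists_lift (I : Ideal R) (hI : ∀ x ∈ I, IsNilpotent x) (h : IsMultType R A)
    (Sb : Type u) [CommRing Sb] [Algebra (R ⧸ I) Sb] [Algebra R Sb] [IsScalarTower R (R ⧸ I) Sb]
    [Algebra.Etale (R ⧸ I) Sb] [Module.FaithfullyFlat (R ⧸ I) Sb]
    (hd : IsDiag Sb (Sb ⊗[R] A)) :
    ∃ (S : Type u) (_ : CommRing S) (_ : Algebra R S), Algebra.Etale R S ∧
      Module.FaithfullyFlat R S ∧ IsDiag S (S ⊗[R] A) ∧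
      (Module.Finite (R ⧸ I) Sb → Module.Finite R S) := by
  obtain ⟨S, _, _, q, hS, hq, hker, hcomp⟩ := exists_etale_lift_surj R I Sb
  haveI := hS
  have hnil : ∀ x ∈ RingHom.ker q, IsNilpotent x := by
    intro x hx
    rw [hker] at hx
    exact mem_nilradical.mp (map_nil I hI S hx)
  refine ⟨S, inferInstance, inferInstance, hS, faithfullyFlat_of_lift I hI q hcomp, ?_, ?_⟩
  · apply isDiag_of_nil_quot h S (RingHom.ker q) hnil
    refine isDiag_transfer (RingHom.quotientKerEquivOfSurjective hq).symm.toRingHom ?_ hd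
    intro r
    have h1 : algebraMap R Sb r = q (algebraMap R S r) := by
      rw [hcomp, IsScalarTower.algebraMap_apply R (R ⧸ I) Sb]
      rfl
    rw [h1]
    exact RingHom.quotientKerEquivOfSurjective_symm_apply hq _
  · intro hfin
    haveI := hfin
    haveI : Algebra.IsIntegral R S := isIntegral_of_lift I hI q hcomp hker
    exact Algebra.IsIntegral.finite

end Lift

end Groth.Agent.Lib.Helper6.IsoNil
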