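import Mathlib
import Groth.Prelude.Def_SGA3b
import Groth.Agent.Lib.Helper6.IsoNil.IN2

/-!
# Isotriviality modulo a nil ideal, part 3: isotrivial and quasi-isotrivial groups (helper6)
-/

set_option autoImplicit false
set_option linter.unusedSectionVars false
set_option linter.unusedVariables false
set_option linter.unusedSimpArgs false
set_option linter.style.haveILetI false
set_option linter.overlappingInstances false
set_option maxHeartbeats 800000
set_option synthInstance.maxHeartbeats 400000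

universe u
open TensorProduct SGA3b

namespace Groth.Agent.Lib.Helper6.IsoNil

open Groth.Agent.Lib.Helper6.MultType Groth.Agent.Lib.Helper6.Lift

/-- Étaleness and faithful flatness are insensitive to replacing the base by an isomorphic ring. -/
lemma etale_ff_of_ringEquiv {P Q R0 : Type u} [CommRing P] [CommRing Q] [CommRing R0]
    [Algebra Q R0] [Algebra P R0] (e : P ≃+* Q)
    (he : ∀ x, algebraMap P R0 x = algebraMap Q R0 (e x))
    [Algebra.Etale Q R0] [Module.FaithfullyFlat Q R0] :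
    Algebra.Etale P R0 ∧ Module.FaithfullyFlat P R0 := by
  letI : Algebra P Q := e.toRingHom.toAlgebra
  haveI : IsScalarTower P Q R0 := IsScalarTower.of_algebraMap_eq he
  let e' : P ≃ₐ[P] Q := AlgEquiv.ofRingEquiv (f := e) (fun x => rfl)
  haveI : Algebra.Etale P Q := Algebra.Etale.of_equiv e'
  haveI : Module.FaithfullyFlat P Q :=
    Module.FaithfullyFlat.of_linearEquiv P P e'.symm.toLinearEquiv
  exact ⟨Algebra.Etale.comp P Q R0, Module.FaithfullyFlat.trans P Q R0⟩

variable {R : Type u} [CommRing R] {A : Type u} [CommRing A] [HopfAlgebra R A]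

/-- The local step of the quasi-isotrivial case. -/
theorem isQuasiIsotrivialConst_of_mod_nil (I : Ideal R) (hI : ∀ x ∈ I, IsNilpotent x)
    (h : IsMultType R A) (f : R)
    (Rf : Type u) [CommRing Rf] [Algebra R Rf] [IsLocalization.Away f Rf]
    (Q : Type u) [CommRing Q] [Algebra (R ⧸ I) Q] [IsLocalization.Away (Ideal.Quotient.mk I f) Q]
    (R0 : Type u) [CommRing R0] [Algebra Q R0] [Algebra.Etale Q R0] [Module.FaithfullyFlat Q R0]
    [Algebra (R ⧸ I) R0] [IsScalarTower (R ⧸ I) Q R0]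
    (h1 : IsDiag R0 (R0 ⊗[R ⧸ I] ((R ⧸ I) ⊗[R] A))) :
    IsQuasiIsotrivialConst Rf (Rf ⊗[R] A) := by
  haveI hloc : IsLocalization (Submonoid.powers (Ideal.Quotient.mk I f))
      (Rf ⧸ I.map (algebraMap R Rf)) := by
    have := (inferInstance : IsLocalization
      (Algebra.algebraMapSubmonoid (R ⧸ I) (Submonoid.powers f)) (Rf ⧸ I.map (algebraMap R Rf)))
    rwa [Algebra.algebraMapSubmonoid, Submonoid.map_powers] at this
  let e : (Rf ⧸ I.map (algebraMap R Rf)) ≃ₐ[R ⧸ I] Q :=
    IsLocalization.algEquiv (Submonoid.powers (Ideal.Quotient.mk I f)) _ _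
  letI aP : Algebra (Rf ⧸ I.map (algebraMap R Rf)) R0 :=
    ((algebraMap Q R0).comp (e : (Rf ⧸ I.map (algebraMap R Rf)) →+* Q)).toAlgebra
  obtain ⟨hét, hff⟩ := etale_ff_of_ringEquiv (P := Rf ⧸ I.map (algebraMap R Rf)) (Q := Q)
    (R0 := R0) e.toRingEquiv (fun x => rfl)
  haveI := hét
  haveI := hff
  letI aR : Algebra R R0 := ((algebraMap (R ⧸ I) R0).comp (Ideal.Quotient.mk I)).toAlgebra
  haveI : IsScalarTower R (R ⧸ I) R0 := IsScalarTower.of_algebraMap_eq' rfl
  letI aRf : Algebra Rf R0 :=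
    ((algebraMap (Rf ⧸ I.map (algebraMap R Rf)) R0).comp (Ideal.Quotient.mk _)).toAlgebra
  haveI : IsScalarTower Rf (Rf ⧸ I.map (algebraMap R Rf)) R0 :=
    IsScalarTower.of_algebraMap_eq' rfl
  haveI : IsScalarTower R Rf R0 := IsScalarTower.of_algebraMap_eq (fun r => by
    show algebraMap (R ⧸ I) R0 (Ideal.Quotient.mk I r) =
      algebraMap Q R0 (e (Ideal.Quotient.mk _ (algebraMap R Rf r)))
    rw [IsScalarTower.algebraMap_apply (R ⧸ I) Q R0]
    congr 1
    exact (e.commutes (Ideal.Quotient.mk I r)).symm)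
  have h2 : IsDiag R0 (R0 ⊗[R] A) := IsDiag.of_tower (R ⧸ I) R0 h1
  have h3 : IsDiag R0 (R0 ⊗[Rf] (Rf ⊗[R] A)) := IsDiag.to_tower Rf R0 h2
  obtain ⟨S, _, _, hS1, hS2, hS3, -⟩ := exists_lift (I.map (algebraMap R Rf))
    (fun x hx => mem_nilradical.mp (map_nil I hI Rf hx)) (IsMultType.baseChange h Rf) R0 h3
  exact ⟨S, inferInstance, inferInstance, hS1, hS2, hS3⟩

/-- Quasi-isotriviality lifts through a nil thickening of the base. -/
theorem isQuasiIsotrivial_of_mod_nil (I : Ideal R) (hI : ∀ x ∈ I, IsNilpotent x)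
    (h : IsMultType R A) (hq : IsQuasiIsotrivial (R ⧸ I) ((R ⧸ I) ⊗[R] A)) :
    IsQuasiIsotrivial R A := by
  obtain ⟨sb, hsb, H⟩ := hq
  refine ⟨{f : R | Ideal.Quotient.mk I f ∈ sb}, span_preimage_eq_top I hI sb hsb, fun f hf => ?_⟩
  obtain ⟨R0, _, _, hét, hff, hd⟩ := H _ hf
  haveI := hét
  haveI := hff
  letI aQ : Algebra (R ⧸ I) R0 := ((algebraMap (Localization.Away (Ideal.Quotient.mk I f)) R0).comp
    (algebraMap (R ⧸ I) (Localization.Away (Ideal.Quotient.mk I f)))).toAlgebra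
  haveI : IsScalarTower (R ⧸ I) (Localization.Away (Ideal.Quotient.mk I f)) R0 :=
    IsScalarTower.of_algebraMap_eq' rfl
  exact isQuasiIsotrivialConst_of_mod_nil I hI h f (Localization.Away f)
    (Localization.Away (Ideal.Quotient.mk I f)) R0
    (IsDiag.of_tower (Localization.Away (Ideal.Quotient.mk I f)) R0 hd)

/-- Isotriviality lifts through a nil thickening of the base. -/
theorem isIsotrivial_of_mod_nil (I : Ideal R) (hI : ∀ x ∈ I, IsNilpotent x)
    (h : IsMultType R A) (hi : IsIsotrivial (R ⧸ I) ((R ⧸ I) ⊗[R] A)) :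
    IsIsotrivial R A := by
  obtain ⟨R', _, _, hét, hfin, hff, hd⟩ := hi
  haveI := hét
  haveI := hff
  letI : Algebra R R' := ((algebraMap (R ⧸ I) R').comp (Ideal.Quotient.mk I)).toAlgebra
  haveI : IsScalarTower R (R ⧸ I) R' := IsScalarTower.of_algebraMap_eq' rfl
  obtain ⟨S, _, _, h1, h2, h3, h4⟩ := exists_lift I hI h R' (IsDiag.of_tower (R ⧸ I) R' hd)
  exact ⟨S, inferInstance, inferInstance, h1, h4 hfin, h2, h3⟩

end Groth.Agent.Lib.Helper6.IsoNil
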